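import Cfsg.Agent.Lib.JankoOne.Unique.Iso

/-!
Uniqueness of Janko's first group from the centraliser of an involution.
-/

set_option autoImplicit false
set_option linter.style.haveILetI false

namespace Cfsg.Agent.JankoOne

universe u

variable {G : Type u} [Group G] [Finite G]

theorem iso_tableGroup_of_centralizer [IsSimpleGroup G] (t : G) (ht : Cfsg.IsTwoCentralInvolution t)
    (e : Subgroup.centralizer ({t} : Set G) ≃* Multiplicative (ZMod 2) × alternatingGroup (Fin 5)) :
    Nonempty (G ≃* tableGroup) :=
  (exists_emb t ht e).elim fun _ E => E.iso_tableGroup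

theorem twoCentral_of_two (t : G) (ho : orderOf t = 2) (h16 : ¬ 16 ∣ Nat.card G)
    (e : Subgroup.centralizer ({t} : Set G) ≃* Multiplicative (ZMod 2) × alternatingGroup (Fin 5)) :
    Cfsg.IsTwoCentralInvolution t := by
  haveI : Fact (Nat.Prime 2) := ⟨Nat.prime_two⟩
  let ι : M →* G := (Subgroup.centralizer ({t} : Set G)).subtype.comp e.symm.toMonoidHom
  have hι : ∀ m, ι m = (e.symm m : G) := fun m => rfl
  have hinj : Function.Injective ι := fun a b h => e.symm.injective (Subtype.ext h)
  let tc : Subgroup.centralizer ({t} : Set G) := ⟨t, Subgroup.mem_centralizer_singleton_iff.2 rfl⟩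
  have hz : e tc = 1 ∨ e tc = tM := center_cases _ fun x => e.symm.injective (by
    rw [map_mul, map_mul, e.symm_apply_apply]
    exact Subtype.ext (Subgroup.mem_centralizer_singleton_iff.1 (e.symm x).2).symm)
  have htM : ι tM = t := by
    rcases hz with h | h
    · have h1 := e.injective (h.trans (map_one e).symm)
      have h2 : t = 1 := congrArg Subtype.val h1
      rw [h2, orderOf_one] at ho
      omega
    · rw [hι, ← h, e.symm_apply_apply]
  have hcard : Nat.card (P0.map ι) = 8 := by rw [Subgroup.card_map_of_injective hinj, card_P0]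
  have hf : (Nat.card G).factorization 2 = 3 := by
    refine le_antisymm (Nat.lt_succ_iff.1 (Nat.lt_of_not_le fun h => h16 ?_)) ?_
    · exact (pow_dvd_pow 2 h).trans (Nat.ordProj_dvd _ _)
    · refine (Nat.prime_two.pow_dvd_iff_le_factorization Nat.card_pos.ne').1 ?_
      rw [show (2 : ℕ) ^ 3 = 8 from rfl, ← hcard]
      exact Subgroup.card_subgroup_dvd_card _
  refine ⟨ho, Sylow.ofCard (P0.map ι) (by rw [hcard, hf]; norm_num), ?_, ?_⟩
  · exact ⟨tM, tM_sq.2.2, htM⟩
  · rintro _ ⟨m, -, rfl⟩
    rw [← htM, ← map_mul, ← map_mul, tM_comm]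

end Cfsg.Agent.JankoOne
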