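import Cfsg.Agent.Lib.JankoOne.Setup
import Mathlib.GroupTheory.PGroup

/-!
An element of order 7 in the normaliser of a Sylow 2-subgroup, acting in a prescribed way, in a simple group with
a 2-central involution with centraliser `Z₂ × A₅`.
-/

set_option autoImplicit false
set_option linter.style.haveILetI false
set_option maxRecDepth 4000
set_option synthInstance.maxSize 4000
set_option synthInstance.maxHeartbeats 200000

namespace Cfsg.Agent.JankoOne

/-- The second basis element of the standard Sylow 2-subgroup. -/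
def sM : M := (1, s5)

/-- The third basis element of the standard Sylow 2-subgroup. -/
def sM' : M := xM * sM * xM⁻¹

/-- The elements of the standard Sylow 2-subgroup. -/
def p8 (i : Fin 8) : M := tM ^ (i.1 % 2) * sM ^ (i.1 / 2 % 2) * sM' ^ (i.1 / 4)

/-- Addition in `(Z/2)^3`. -/
def xor8 (i j : Fin 8) : Fin 8 := ⟨(i.1 ^^^ j.1) % 8, Nat.mod_lt _ (by norm_num)⟩

/-- The linear map with given values at the basis. -/
def lin (a b c i : Fin 8) : Fin 8 :=
  xor8 (xor8 (if i.1 % 2 = 1 then a else 0) (if i.1 / 2 % 2 = 1 then b else 0)) (if i.1 / 4 = 1 then c else 0)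

/-- The action of `xM`. -/
def xAct : Fin 8 → Fin 8 := ![0, 1, 4, 5, 6, 7, 2, 3]

/-- The action chosen for the element of order 7. -/
def sig : Fin 8 → Fin 8 := ![0, 3, 6, 5, 7, 4, 1, 2]

/-- The outer symmetry. -/
def phiAct : Fin 8 → Fin 8 := ![0, 1, 6, 7, 4, 5, 2, 3]

/-- Normalising the standard Sylow 2-subgroup. -/
def InN (m : M) : Prop := ∀ i : Fin 8, InP (m * p8 i * m⁻¹)

instance (m : M) : Decidable (InN m) := inferInstanceAs (Decidable (∀ _, _))

theorem p8_facts : p8 1 = tM ∧ p8 0 = 1 ∧ (∀ i, InP (p8 i)) ∧ (∀ i j, p8 i * p8 j = p8 (xor8 i j)) ∧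
    (∀ i j, p8 i = p8 j → i = j) ∧ (∀ i, xM * p8 i * xM⁻¹ = p8 (xAct i)) := by decide +kernel

theorem p8_surj : ∀ m : M, InP m → ∃ i, p8 i = m := by decide +kernel

theorem inN_inv : ∀ m : M, InN m → InN m⁻¹ := by decide +kernel

theorem inN_card : (Finset.univ.filter fun m : M => InN m).card = 24 ∧ InN xM := by decide +kernel

theorem lin_cases : ∀ a : Fin 8, a ≠ 1 → ∀ b c : Fin 8, (∀ i, (lin a b c)^[7] i = i) →
    (∃ j : Fin 7, ∀ i, xAct (lin a b c i) = (lin a b c)^[j.1] (xAct i)) →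
      ∃ k : Fin 7, (∀ i, (lin a b c)^[k.1] i = sig i) ∨
        (∀ i, phiAct ((lin a b c)^[k.1] (phiAct i)) = sig i) := by decide +kernel

theorem lin_one : ∀ a b c : Fin 8, lin a b c 1 = a := by decide

theorem sig_comm : ∀ j : Fin 7, (∀ i, xAct (sig i) = sig^[j.1] (xAct i)) → j = 2 := by decide +kernel

/-- The odd permutation used for the outer symmetry. -/
def outer5 : Equiv.Perm (Fin 5) := Equiv.swap 1 2

/-- The outer symmetry of the model. -/
def phiM : M →* M where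
  toFun m := (m.1, ⟨outer5 * m.2.1 * outer5⁻¹, Equiv.Perm.mem_alternatingGroup.2 (by
    rw [map_mul, map_mul, map_inv, Equiv.Perm.mem_alternatingGroup.1 m.2.2, mul_one, mul_inv_cancel])⟩)
  map_one' := Prod.ext rfl (Subtype.ext (by simp))
  map_mul' m n := Prod.ext rfl (Subtype.ext (by simp [mul_assoc]))

theorem phi_facts : (∀ m, phiM (phiM m) = m) ∧ phiM tM = tM ∧ phiM xM = xM⁻¹ ∧
    (∀ i, phiM (p8 i) = p8 (phiAct i)) ∧ ∀ m, InP m → InP (phiM m) := by decide +kernel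

variable {G : Type*} [Group G] {ι : M →* G}

/-- Conjugation by `g` induces `f` on the standard Sylow 2-subgroup. -/
def Acts (ι : M →* G) (g : G) (f : Fin 8 → Fin 8) : Prop :=
  ∀ i, g * ι (p8 i) * g⁻¹ = ι (p8 (f i))

theorem Acts.mul {g h : G} {f f' : Fin 8 → Fin 8} (hg : Acts ι g f) (hh : Acts ι h f') :
    Acts ι (g * h) (f ∘ f') := fun i => by
  rw [Function.comp_apply, ← hg, ← hh]; group

theorem Acts.pow {g : G} {f : Fin 8 → Fin 8} (hg : Acts ι g f) : ∀ k : ℕ, Acts ι (g ^ k) f^[k]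
  | 0 => fun i => by rw [pow_zero, one_mul, inv_one, mul_one, Function.iterate_zero_apply]
  | k + 1 => by
    rw [pow_succ', Function.iterate_succ']
    exact hg.mul (Acts.pow hg k)

theorem Acts.unique (hinj : Function.Injective ι) {g : G} {f f' : Fin 8 → Fin 8} (h : Acts ι g f)
    (h' : Acts ι g f') (i : Fin 8) : f i = f' i :=
  p8_facts.2.2.2.2.1 _ _ (hinj ((h i).symm.trans (h' i)))

namespace Emb

variable (E : Emb ι)

include E

theorem comp_phi : Emb (ι.comp phiM) where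
  inj a b h := Function.LeftInverse.injective phi_facts.1 (E.inj h)
  cent g hg := by
    simp only [MonoidHom.comp_apply, phi_facts.2.1] at hg
    obtain ⟨m, rfl⟩ := E.cent g hg
    exact ⟨phiM m, by rw [MonoidHom.comp_apply, phi_facts.1]⟩
  two := E.two

theorem acts_xM : Acts ι (ι xM) xAct := fun i => by
  rw [← map_inv, ← map_mul, ← map_mul, p8_facts.2.2.2.2.2]

variable [Finite G]

theorem mem_syl {g : G} : g ∈ (E.syl : Subgroup G) ↔ ∃ i, ι (p8 i) = g := by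
  constructor
  · rintro ⟨m, hm, rfl⟩
    obtain ⟨i, rfl⟩ := p8_surj m hm
    exact ⟨i, rfl⟩
  · rintro ⟨i, rfl⟩
    exact ⟨p8 i, p8_facts.2.2.1 i, rfl⟩

theorem mem_norm_iff {m : M} :
    ι m ∈ Subgroup.normalizer ((E.syl : Subgroup G) : Set G) ↔ InN m := by
  constructor
  · intro h i
    obtain ⟨n, hn, he⟩ : ι m * ι (p8 i) * (ι m)⁻¹ ∈ P0.map ι :=
      (Subgroup.mem_normalizer_iff.1 h _).1 (E.mem_syl.2 ⟨i, rfl⟩)
    rw [← map_inv, ← map_mul, ← map_mul] at he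
    exact E.inj he ▸ hn
  · intro h
    refine Subgroup.mem_normalizer_iff.2 fun g => ⟨?_, ?_⟩
    · intro hg
      obtain ⟨i, rfl⟩ := E.mem_syl.1 hg
      exact ⟨_, h i, by rw [map_mul, map_mul, map_inv]⟩
    · intro hg
      obtain ⟨i, hi⟩ := E.mem_syl.1 hg
      refine ⟨_, inN_inv m h i, ?_⟩
      simp only [map_mul, map_inv, hi]
      group

theorem exists_acts {g : G} (hg : g ∈ Subgroup.normalizer ((E.syl : Subgroup G) : Set G)) :
    ∃ a b c : Fin 8, Acts ι g (lin a b c) := by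
  have h : ∀ i, ∃ j, g * ι (p8 i) * g⁻¹ = ι (p8 j) := fun i => by
    obtain ⟨j, hj⟩ := E.mem_syl.1 ((Subgroup.mem_normalizer_iff.1 hg _).1 (E.mem_syl.2 ⟨i, rfl⟩))
    exact ⟨j, hj.symm⟩
  obtain ⟨a, ha⟩ := h 1
  obtain ⟨b, hb⟩ := h 2
  obtain ⟨c, hc⟩ := h 4
  refine ⟨a, b, c, ?_⟩
  have hmul : ∀ i j i' j', g * ι (p8 i) * g⁻¹ = ι (p8 i') → g * ι (p8 j) * g⁻¹ = ι (p8 j') →
      g * ι (p8 (xor8 i j)) * g⁻¹ = ι (p8 (xor8 i' j')) := fun i j i' j' h1 h2 => by
    rw [← p8_facts.2.2.2.1, ← p8_facts.2.2.2.1, map_mul, map_mul, ← h1, ← h2]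
    group
  have h0 : g * ι (p8 0) * g⁻¹ = ι (p8 0) := by
    rw [p8_facts.2.1, map_one, mul_one, mul_inv_cancel]
  intro i
  have key : ∀ (e : Fin 8) (v : Fin 8) (q : Prop) [Decidable q], g * ι (p8 e) * g⁻¹ = ι (p8 v) →
      g * ι (p8 (if q then e else 0)) * g⁻¹ = ι (p8 (if q then v else 0)) := by
    intro e v q _ he
    split
    · exact he
    · exact h0
  have hi : ∀ i : Fin 8, i = lin 1 2 4 i := by decide
  conv_lhs => rw [hi i]
  exact hmul _ _ _ _ (hmul _ _ _ _ (key 1 a _ ha) (key 2 b _ hb)) (key 4 c _ hc)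

theorem card_norm [IsSimpleGroup G] :
    Nat.card (Subgroup.normalizer ((E.syl : Subgroup G) : Set G)) = 168 := by
  classical
  haveI : Fact (Nat.Prime 2) := ⟨Nat.prime_two⟩
  haveI : IsMulCommutative ((E.syl : Sylow 2 G) : Subgroup G) := by
    refine ⟨⟨fun u v => Subtype.ext ?_⟩⟩
    obtain ⟨i, hi⟩ := E.mem_syl.1 u.2
    obtain ⟨j, hj⟩ := E.mem_syl.1 v.2
    show (u : G) * v = v * u
    rw [← hi, ← hj, ← map_mul, ← map_mul, p8_facts.2.2.2.1, p8_facts.2.2.2.1]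
    exact congrArg (fun n => ι (p8 n)) (Fin.ext (by simp only [xor8]; rw [Nat.xor_comm]))
  set N := Subgroup.normalizer ((E.syl : Subgroup G) : Set G)
  have h1 : ∀ a : {a : Fin 8 // a ≠ 0}, ∃ n : G, n ∈ N ∧ n * ι (p8 1) * n⁻¹ = ι (p8 a) := by
    rintro ⟨a, ha⟩
    obtain ⟨c, hc⟩ := isConj_iff.1 (E.fusion.1 (p8 a) (p8_facts.2.2.1 a) fun h =>
      ha (p8_facts.2.2.2.2.1 a 0 (h.trans p8_facts.2.1.symm)))
    obtain ⟨n, hn, hn'⟩ := Sylow.conj_eq_normalizer_conj_of_mem E.syl (ι tM) c⁻¹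
      (E.mem_syl.2 ⟨1, by rw [p8_facts.1]⟩) (by rw [inv_inv]; exact E.mem_syl.2 ⟨a, hc.symm⟩)
    refine ⟨n⁻¹, inv_mem hn, ?_⟩
    rw [p8_facts.1, inv_inv, ← hn', inv_inv, hc]
  choose s hs hsa using h1
  have hbij := Nat.card_eq_of_bijective
    (fun p : {a : Fin 8 // a ≠ 0} × {m : M // InN m} =>
      (⟨s p.1 * ι p.2.1, mul_mem (hs _) (E.mem_norm_iff.2 p.2.2)⟩ : N)) ⟨?_, ?_⟩
  · rw [← hbij, Nat.card_prod, Nat.card_eq_fintype_card, Nat.card_eq_fintype_card, Fintype.card_subtype,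
      Fintype.card_subtype, inN_card.1, show (Finset.univ.filter fun a : Fin 8 => a ≠ 0).card = 7 from by decide]
  · rintro ⟨a, m⟩ ⟨a', m'⟩ h
    have h' : s a * ι m.1 = s a' * ι m'.1 := congrArg Subtype.val h
    have ha : ∀ (a : {a : Fin 8 // a ≠ 0}) (m : M), (s a * ι m) * ι tM * (s a * ι m)⁻¹ = ι (p8 a) :=
      fun a m => by
        rw [← hsa a, p8_facts.1]
        calc s a * ι m * ι tM * (s a * ι m)⁻¹ = s a * (ι m * ι tM * (ι m)⁻¹) * (s a)⁻¹ := by group
          _ = s a * ι tM * (s a)⁻¹ := by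
            rw [← map_inv, ← map_mul, ← map_mul, tM_comm, mul_inv_cancel_right]
    have haa : a = a' := Subtype.ext (p8_facts.2.2.2.2.1 _ _ (E.inj (by rw [← ha a m.1, h', ha])))
    subst haa
    exact Prod.ext rfl (Subtype.ext (E.inj (mul_left_cancel h')))
  · rintro ⟨g, hg⟩
    obtain ⟨a, b, c, hact⟩ := E.exists_acts hg
    have ha := hact 1
    have hl : lin a b c 1 = a := lin_one a b c
    rw [hl] at ha
    have ha0 : a ≠ 0 := fun h => by
      rw [h, p8_facts.2.1, map_one, p8_facts.1, conj_eq_one_iff] at ha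
      exact tM_sq.2.1 (E.inj (ha.trans (map_one ι).symm))
    obtain ⟨m, hm⟩ := E.cent ((s ⟨a, ha0⟩)⁻¹ * g) (by
      rw [← mul_inv_eq_iff_eq_mul, ← p8_facts.1]
      calc (s ⟨a, ha0⟩)⁻¹ * g * ι (p8 1) * ((s ⟨a, ha0⟩)⁻¹ * g)⁻¹
          = (s ⟨a, ha0⟩)⁻¹ * (g * ι (p8 1) * g⁻¹) * s ⟨a, ha0⟩ := by group
        _ = ι (p8 1) := by rw [ha, ← hsa ⟨a, ha0⟩]; group)
    refine ⟨⟨⟨a, ha0⟩, m, E.mem_norm_iff.1 (hm ▸ mul_mem (inv_mem (hs _)) hg)⟩, Subtype.ext ?_⟩
    show s _ * ι m = g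
    exact (congrArg (s _ * ·) hm).trans (mul_inv_cancel_left _ _)

theorem exists_seven [IsSimpleGroup G] : ∃ (a b c : Fin 8) (g : G), g ^ 7 = 1 ∧ a ≠ 1 ∧
    Acts ι g (lin a b c) ∧ ∃ j : Fin 7, ι xM * g * (ι xM)⁻¹ = g ^ (j : ℕ) := by
  classical
  haveI : Fact (Nat.Prime 7) := ⟨by norm_num⟩
  haveI : Fact (Nat.Prime 3) := ⟨Nat.prime_three⟩
  set N := Subgroup.normalizer ((E.syl : Subgroup G) : Set G)
  let P : Sylow 7 N := default
  have hP : Nat.card (P : Subgroup N) = 7 := by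
    rw [Sylow.card_eq_multiplicity, E.card_norm]
    decide +kernel
  have hn : ¬ 3 ∣ Nat.card (Sylow 7 N) := by
    have hd : Nat.card (Sylow 7 N) ∣ 24 := by
      refine P.card_dvd_index.trans (dvd_of_eq ?_)
      have := (P : Subgroup N).card_mul_index
      rw [hP, E.card_norm] at this
      omega
    have hm := card_sylow_modEq_one 7 N
    have hle := Nat.le_of_dvd (by norm_num) hd
    unfold Nat.ModEq at hm
    intro h3
    interval_cases Nat.card (Sylow 7 N) <;> simp_all <;> omega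
  let xN : N := ⟨ι xM, E.mem_norm_iff.2 inN_card.2⟩
  have hx : IsPGroup 3 (Subgroup.zpowers xN) := by
    refine IsPGroup.of_card (n := 1) ?_
    rw [Nat.card_zpowers, pow_one]
    refine orderOf_eq_prime (Subtype.ext ?_) fun h => yM_facts.2.2.2.2.2.2.2.2 ?_
    · show ι xM ^ 3 = 1
      rw [← map_pow, yM_facts.2.2.2.2.2.2.2.1, map_one]
    · exact E.inj ((congrArg Subtype.val h : ι xM = 1).trans (map_one ι).symm)
  obtain ⟨Q, hQ⟩ := hx.nonempty_fixed_point_of_prime_not_dvd_card (Sylow 7 N) hn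
  have hQc : Nat.card (Q : Subgroup N) = 7 := by
    rw [Sylow.card_eq_multiplicity, ← Sylow.card_eq_multiplicity P, hP]
  haveI : IsCyclic (Q : Subgroup N) := isCyclic_of_prime_card hQc
  obtain ⟨⟨⟨g, hgN⟩, hgQ⟩, hgen⟩ := IsCyclic.exists_generator (α := (Q : Subgroup N))
  have hg7 : g ^ 7 = 1 := by
    have := pow_card_eq_one' (x := (⟨⟨g, hgN⟩, hgQ⟩ : (Q : Subgroup N)))
    rw [hQc] at this
    exact congrArg (fun z : (Q : Subgroup N) => ((z : N) : G)) this
  have hg1 : g ≠ 1 := fun h => by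
    have : Nat.card (Q : Subgroup N) ≤ 1 := by
      refine Finite.card_le_one_iff_subsingleton.2 ⟨fun u v => ?_⟩
      have hone : (⟨⟨g, hgN⟩, hgQ⟩ : (Q : Subgroup N)) = 1 := Subtype.ext (Subtype.ext h)
      obtain ⟨i, rfl⟩ := hgen u
      obtain ⟨j, rfl⟩ := hgen v
      simp [hone]
    omega
  obtain ⟨a, b, c, hact⟩ := E.exists_acts hgN
  refine ⟨a, b, c, g, hg7, fun h => ?_, hact, ?_⟩
  · have := hact 1
    rw [lin_one, h, p8_facts.1,
      mul_inv_eq_iff_eq_mul] at this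
    obtain ⟨m, hm⟩ := E.cent g this
    have h120 : m ^ 120 = 1 := by
      rw [← card_M]; exact pow_card_eq_one'
    refine hg1 ?_
    have h1 : g ^ 120 = 1 := by rw [← hm, ← map_pow, h120, map_one]
    have := Nat.eq_one_of_dvd_coprimes (by norm_num : Nat.Coprime 7 120) (orderOf_dvd_of_pow_eq_one hg7)
      (orderOf_dvd_of_pow_eq_one h1)
    exact orderOf_eq_one_iff.1 this
  · have hfix : (⟨xN, Subgroup.mem_zpowers _⟩ : Subgroup.zpowers xN) • Q = Q := hQ _
    have hmem : xN * ⟨g, hgN⟩ * xN⁻¹ ∈ (Q : Subgroup N) := by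
      have h' : xN • Q = Q := hfix
      rw [← h', Sylow.coe_subgroup_smul]
      exact Subgroup.smul_mem_pointwise_smul (⟨g, hgN⟩ : N) (MulAut.conj xN) _ hgQ
    obtain ⟨k, hk⟩ := hgen ⟨_, hmem⟩
    have hk' : g ^ k = ι xM * g * (ι xM)⁻¹ :=
      congrArg (fun z : (Q : Subgroup N) => ((z : N) : G)) hk
    refine ⟨⟨(k % 7).toNat, by omega⟩, ?_⟩
    rw [← hk', ← zpow_natCast, Int.toNat_of_nonneg (Int.emod_nonneg _ (by norm_num))]
    have ho : orderOf g = 7 := orderOf_eq_prime hg7 hg1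
    have := (zpow_mod_orderOf g k).symm
    rwa [ho] at this

/-- After an outer change of the embedding, an element of order 7 acts in the prescribed way. -/
theorem exists_frame [IsSimpleGroup G] : ∃ (ι' : M →* G) (a : G), Emb ι' ∧ a ^ 7 = 1 ∧ a ≠ 1 ∧
    Acts ι' a sig ∧ ι' xM * a * (ι' xM)⁻¹ = a ^ 2 := by
  obtain ⟨a, b, c, g, hg, ha, hact, j, hj⟩ := E.exists_seven
  have h7 : ∀ i, (lin a b c)^[7] i = i := fun i => by
    refine ((hact.pow 7).unique E.inj (f' := id) (fun i => ?_) i)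
    rw [hg, one_mul, inv_one, mul_one, id]
  have hcomm : ∀ i, xAct (lin a b c i) = (lin a b c)^[j.1] (xAct i) := fun i => by
    refine ((E.acts_xM.mul hact).unique E.inj (f' := (lin a b c)^[j.1] ∘ xAct) ?_ i)
    have e : ι xM * g = g ^ (j : ℕ) * ι xM := by rw [← hj, inv_mul_cancel_right]
    rw [e]
    exact (hact.pow _).mul E.acts_xM
  obtain ⟨k, hk⟩ := lin_cases a ha b c h7 ⟨j, hcomm⟩
  have main : ∀ (ι' : M →* G), Emb ι' → Acts ι' (g ^ (k : ℕ)) sig →
      (ι' xM = ι xM ∨ ι' xM = (ι xM)⁻¹) →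
      ∃ (ι' : M →* G) (a : G), Emb ι' ∧ a ^ 7 = 1 ∧ a ≠ 1 ∧ Acts ι' a sig ∧
        ι' xM * a * (ι' xM)⁻¹ = a ^ 2 := by
    intro ι' E' hsig hx
    set a' := g ^ (k : ℕ)
    have ha7 : a' ^ 7 = 1 := by rw [← pow_mul, mul_comm, pow_mul, hg, one_pow]
    have ha1 : a' ≠ 1 := fun h => by
      have h1 := hsig 1
      rw [h, one_mul, inv_one, mul_one] at h1
      exact absurd (p8_facts.2.2.2.2.1 _ _ (E'.inj h1)) (by decide)
    have hja : ι xM * a' * (ι xM)⁻¹ = a' ^ (j : ℕ) := by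
      rw [← conj_pow, hj, ← pow_mul, ← pow_mul, mul_comm]
    obtain ⟨n, hn⟩ : ∃ n : ℕ, ι' xM * a' * (ι' xM)⁻¹ = a' ^ n := by
      rcases hx with h | h
      · exact ⟨j, h ▸ hja⟩
      · refine ⟨j * j, ?_⟩
        have hx3 : (ι xM)⁻¹ = ι xM * ι xM := by
          rw [← map_inv, ← map_mul]; exact congrArg ι (by decide +kernel)
        rw [h, hx3]
        calc ι xM * ι xM * a' * (ι xM * ι xM)⁻¹ = ι xM * (ι xM * a' * (ι xM)⁻¹) * (ι xM)⁻¹ := by group
          _ = (a' ^ (j : ℕ)) ^ (j : ℕ) := by rw [hja, ← conj_pow, hja]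
          _ = a' ^ ((j : ℕ) * j) := (pow_mul _ _ _).symm
    refine ⟨ι', a', E', ha7, ha1, hsig, ?_⟩
    have hred : a' ^ n = a' ^ (n % 7) := by
      conv_lhs => rw [← Nat.div_add_mod n 7, pow_add, pow_mul, ha7, one_pow, one_mul]
    have hn2 : (⟨n % 7, Nat.mod_lt _ (by norm_num)⟩ : Fin 7) = 2 := by
      refine sig_comm _ fun i => ?_
      refine ((E'.acts_xM.mul hsig).unique E'.inj (f' := sig^[n % 7] ∘ xAct) ?_ i)
      have e : ι' xM * a' = a' ^ (n % 7) * ι' xM := by rw [← hred, ← hn, inv_mul_cancel_right]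
      rw [e]
      exact (hsig.pow _).mul E'.acts_xM
    rw [hn, hred, show n % 7 = 2 from congrArg Fin.val hn2]
  rcases hk with hk | hk
  · exact main ι E (fun i => by rw [hact.pow _ i, hk]) (Or.inl rfl)
  · refine main (ι.comp phiM) E.comp_phi (fun i => ?_) (Or.inr ?_)
    · rw [MonoidHom.comp_apply, MonoidHom.comp_apply, phi_facts.2.2.2.1, phi_facts.2.2.2.1, hact.pow _, ← hk i]
      congr 2
      have hp : ∀ i, phiAct (phiAct i) = i := by decide
      rw [hp]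
    · rw [MonoidHom.comp_apply, phi_facts.2.2.1, map_inv]

end Emb

end Cfsg.Agent.JankoOne
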