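import Cfsg.Agent.Lib.JankoOne.Unique.Relators
import Cfsg.Agent.Lib.JankoOne.Cert.Table
import Mathlib.GroupTheory.GroupAction.Quotient

/-!
A simple group with a 2-central involution with centraliser `Z₂ × A₅` is the permutation group of degree 1463
given by the coset table.
-/

set_option autoImplicit false
set_option linter.style.haveILetI false

namespace Cfsg.Agent.JankoOne

open Cert

/-- The permutation of a generator in the coset table. -/
def tablePerm (g : Fin 4) : Equiv.Perm (Fin 1463) where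
  toFun i := ⟨nextC g i, (edge_spec g.2 i.2).2.2.2.2.1⟩
  invFun i := ⟨prevC g i, (edge_spec g.2 i.2).2.2.2.2.2.1⟩
  left_inv i := Fin.ext (edge_spec g.2 i.2).2.2.2.2.2.2.2
  right_inv i := Fin.ext (edge_spec g.2 i.2).2.2.2.2.2.2.1

/-- The permutation group of degree 1463. -/
def tableGroup : Subgroup (Equiv.Perm (Fin 1463)) := Subgroup.closure (Set.range tablePerm)

theorem el_words_lt : ∀ i : Fin 120, ∀ l ∈ Data.elWords.getD i [], l < 6 := by decide +kernel

theorem rels_lt : ∀ w ∈ Data.baseRels ++ [Data.Case0.rel], ∀ l ∈ w, l / 2 < 4 := by decide +kernel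

section Enum

variable {L : Type*} [Group L] {ι : M →* L} {gv : ℕ → L}

/-- The cosets of the table, mapped into the group. -/
theorem exists_coset_map (hI : Interp ι gv (Data.baseRels ++ [Data.Case0.rel])) :
    ∃ φ : Fin 1463 → L ⧸ ι.range, φ 0 = ((1 : L) : L ⧸ ι.range) ∧
      ∀ (g : Fin 4) (i : Fin 1463), φ (tablePerm g i) = (gv g)⁻¹ • φ i := by
  obtain ⟨R, h0, hR⟩ := sound hI cert0 rfl cert0_ok
  refine ⟨fun i => (((R (liveC i))⁻¹ : L) : L ⧸ ι.range), ?_, fun g i => ?_⟩
  · show (((R (liveC 0))⁻¹ : L) : L ⧸ ι.range) = _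
    rw [liveC_zero, h0, inv_one]
  · obtain ⟨he, hs, ht, hg, -⟩ := edge_spec g.2 i.2
    obtain ⟨e, -⟩ := hR _ he
    rw [hs, ht, hg, genVal, if_pos g.2] at e
    show (((R (liveC (nextC g i)))⁻¹ : L) : L ⧸ ι.range) =
      (((gv g)⁻¹ * (R (liveC i))⁻¹ : L) : L ⧸ ι.range)
    rw [QuotientGroup.eq, ← mul_inv_rev, e, inv_inv, mul_inv_rev, mul_inv_cancel_left]
    exact inv_mem ⟨_, rfl⟩

theorem move_subgroup (φ : Fin 1463 → L ⧸ ι.range)
    (hφ : ∀ (g : Fin 4) (i : Fin 1463), φ (tablePerm g i) = (gv g)⁻¹ • φ i)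
    (hgen : Subgroup.closure (Set.range fun g : Fin 4 => gv g) = ⊤) (h : L) :
    ∃ π : Equiv.Perm (Fin 1463), ∀ i, φ (π i) = h • φ i := by
  have hmem : h ∈ Subgroup.closure (Set.range fun g : Fin 4 => gv g) := hgen ▸ Subgroup.mem_top h
  induction hmem using Subgroup.closure_induction with
  | mem x hx =>
    obtain ⟨g, rfl⟩ := hx
    refine ⟨(tablePerm g)⁻¹, fun i => ?_⟩
    have h1 := hφ g ((tablePerm g)⁻¹ i)
    rw [← Equiv.Perm.mul_apply, mul_inv_cancel, Equiv.Perm.one_apply] at h1
    exact (eq_inv_smul_iff.1 h1).symm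
  | one => exact ⟨1, fun i => (one_smul _ _).symm⟩
  | mul x y _ _ hx hy =>
    obtain ⟨π, hπ⟩ := hx
    obtain ⟨π', hπ'⟩ := hy
    exact ⟨π * π', fun i => by rw [Equiv.Perm.mul_apply, hπ, hπ', mul_smul]⟩
  | inv x _ hx =>
    obtain ⟨π, hπ⟩ := hx
    exact ⟨π⁻¹, fun i => eq_inv_smul_iff.2 (by
      rw [← hπ, ← Equiv.Perm.mul_apply, mul_inv_cancel, Equiv.Perm.one_apply])⟩

/-- The coset map is a bijection. -/
theorem coset_bijective [Finite L] (hinj : Function.Injective ι) (h7 : 7 ∣ Nat.card L)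
    (hI : Interp ι gv (Data.baseRels ++ [Data.Case0.rel]))
    (hgen : Subgroup.closure (Set.range fun g : Fin 4 => gv g) = ⊤) :
    ∃ φ : Fin 1463 → L ⧸ ι.range, Function.Bijective φ ∧
      ∀ (g : Fin 4) (i : Fin 1463), φ (tablePerm g i) = (gv g)⁻¹ • φ i := by
  classical
  obtain ⟨φ, hφ0, hφ⟩ := exists_coset_map hI
  haveI : Fintype (L ⧸ ι.range) := Fintype.ofFinite _
  have hmove := move_subgroup φ hφ hgen
  have hsurj : Function.Surjective φ := fun q => by
    induction q using QuotientGroup.induction_on with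
    | H h =>
      obtain ⟨π, hπ⟩ := hmove h
      refine ⟨π 0, ?_⟩
      rw [hπ, hφ0]
      show (((h * 1 : L)) : L ⧸ ι.range) = _
      rw [mul_one]
  let F : L ⧸ ι.range → Finset (Fin 1463) := fun q => Finset.univ.filter fun i => φ i = q
  set b : L ⧸ ι.range := ((1 : L) : L ⧸ ι.range) with hb
  have heq : ∀ q, (F q).card = (F b).card := fun q => by
    induction q using QuotientGroup.induction_on with
    | H h =>
      obtain ⟨π, hπ⟩ := hmove h⁻¹
      refine Finset.card_equiv π fun i => ?_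
      simp only [F, Finset.mem_filter, Finset.mem_univ, true_and]
      rw [hπ, inv_smul_eq_iff, hb]
      show _ ↔ φ i = ((h * 1 : L) : L ⧸ ι.range)
      rw [mul_one]
  have hsum : 1463 = Nat.card (L ⧸ ι.range) * (F b).card := by
    have h := Finset.card_eq_sum_card_fiberwise (s := (Finset.univ : Finset (Fin 1463))) (f := φ)
      (t := Finset.univ) fun _ _ => Finset.mem_univ _
    rw [Finset.card_univ, Fintype.card_fin] at h
    refine h.trans ?_
    rw [Finset.sum_const_nat (m := (F b).card) fun q _ => heq q, Finset.card_univ, Nat.card_eq_fintype_card]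
  have hm7 : 7 ∣ Nat.card (L ⧸ ι.range) := by
    rw [Subgroup.card_eq_card_quotient_mul_card_subgroup ι.range,
      ← Nat.card_congr (MonoidHom.ofInjective hinj).toEquiv, card_M] at h7
    exact (by norm_num : Nat.Coprime 7 120).dvd_of_dvd_mul_right h7
  have hf : (F b).card ∣ 209 := by
    obtain ⟨k, hk⟩ := hm7
    exact ⟨k, by rw [hk, mul_assoc] at hsum; rw [mul_comm]; omega⟩
  let F' : Finset ℕ := (F b).map Fin.valEmbedding
  have hcard : F'.card = (F b).card := Finset.card_map _
  have hfib := fibre_card F' (fun n hn => by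
    obtain ⟨i, -, rfl⟩ := Finset.mem_map.1 hn
    exact Finset.mem_range.2 i.2) fun g hg i hi => by
      have hfix : (gv g)⁻¹ • b = b := by
        rw [hb]
        show (((gv g)⁻¹ * 1 : L) : L ⧸ ι.range) = _
        rw [QuotientGroup.eq, mul_one, mul_one, inv_inv, hI.gen g hg]
        exact ⟨_, rfl⟩
      have hiff : φ (⟨i, hi⟩ : Fin 1463) = b ↔ φ (tablePerm ⟨g, by omega⟩ ⟨i, hi⟩) = b := by
        rw [hφ, inv_smul_eq_iff]
        conv_rhs => rw [show gv g • b = b from (inv_smul_eq_iff.1 hfix).symm]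
      have hmem : ∀ j : Fin 1463, (j : ℕ) ∈ F' ↔ φ j = b := fun j => by
        simp [F', F, Fin.val_inj]
      exact (hmem ⟨i, hi⟩).trans (hiff.trans (hmem (tablePerm ⟨g, by omega⟩ ⟨i, hi⟩)).symm)
  rw [hcard] at hfib
  have h1 : (F b).card = 1 := by
    have hle := Nat.le_of_dvd (by norm_num) hf
    have hmem : (F b).card ∈ Nat.divisors 209 := Nat.mem_divisors.2 ⟨hf, by norm_num⟩
    rw [show Nat.divisors 209 = {1, 11, 19, 209} by decide +kernel] at hmem
    simp only [Finset.mem_insert, Finset.mem_singleton] at hmem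
    obtain ⟨a, b, c⟩ := hfib
    omega
  refine ⟨φ, ⟨fun i j hij => ?_, hsurj⟩, hφ⟩
  have hc := heq (φ i)
  rw [h1, Finset.card_eq_one] at hc
  obtain ⟨x, hx⟩ := hc
  have hi : i ∈ F (φ i) := Finset.mem_filter.2 ⟨Finset.mem_univ _, rfl⟩
  have hj : j ∈ F (φ i) := Finset.mem_filter.2 ⟨Finset.mem_univ _, hij.symm⟩
  rw [hx, Finset.mem_singleton] at hi hj
  rw [hi, hj]

theorem card_of_interp [Finite L] (hinj : Function.Injective ι) (h7 : 7 ∣ Nat.card L)
    (hI : Interp ι gv (Data.baseRels ++ [Data.Case0.rel]))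
    (hgen : Subgroup.closure (Set.range fun g : Fin 4 => gv g) = ⊤) : Nat.card L = 175560 := by
  obtain ⟨φ, hb, -⟩ := coset_bijective hinj h7 hI hgen
  rw [Subgroup.card_eq_card_quotient_mul_card_subgroup ι.range,
    ← Nat.card_congr (MonoidHom.ofInjective hinj).toEquiv, card_M, ← Nat.card_eq_of_bijective φ hb,
    Nat.card_eq_fintype_card, Fintype.card_fin]

theorem iso_table [Finite L] [IsSimpleGroup L] (hinj : Function.Injective ι) (h7 : 7 ∣ Nat.card L)
    (hI : Interp ι gv (Data.baseRels ++ [Data.Case0.rel]))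
    (hgen : Subgroup.closure (Set.range fun g : Fin 4 => gv g) = ⊤) : Nonempty (L ≃* tableGroup) := by
  obtain ⟨φ, hb, hφ⟩ := coset_bijective hinj h7 hI hgen
  let e : Fin 1463 ≃ L ⧸ ι.range := Equiv.ofBijective φ hb
  let ψ : L →* Equiv.Perm (Fin 1463) :=
    e.symm.permCongrHom.toMonoidHom.comp (MulAction.toPermHom L (L ⧸ ι.range))
  have hψ : ∀ h i, φ (ψ h i) = h • φ i := fun h i => e.apply_symm_apply _
  have hgv : ∀ g : Fin 4, ψ (gv g) = (tablePerm g)⁻¹ := fun g => by
    refine Equiv.ext fun i => hb.1 ?_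
    rw [hψ]
    have h1 := hφ g ((tablePerm g)⁻¹ i)
    rw [← Equiv.Perm.mul_apply, mul_inv_cancel, Equiv.Perm.one_apply] at h1
    exact eq_inv_smul_iff.1 h1
  have hrange : ψ.range = tableGroup := by
    rw [MonoidHom.range_eq_map, ← hgen, MonoidHom.map_closure, tableGroup, ← Set.range_comp,
      show (fun x => ψ x) ∘ (fun g : Fin 4 => gv g) = fun g => (tablePerm g)⁻¹ from funext hgv,
      ← Subgroup.closure_inv (Set.range tablePerm), Set.inv_range]
  have hker : ψ.ker = ⊥ := by
    refine ((inferInstance : ψ.ker.Normal).eq_bot_or_eq_top).resolve_right fun htop => ?_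
    have h1 : ∀ h : L, h • φ 0 = φ 0 := fun h => by
      rw [← hψ, (MonoidHom.mem_ker).1 (htop ▸ Subgroup.mem_top h), Equiv.Perm.one_apply]
    obtain ⟨h, hh⟩ := MulAction.exists_smul_eq L (φ 0) (φ 1)
    rw [h1] at hh
    exact absurd (hb.1 hh) (by decide)
  exact ⟨(MonoidHom.ofInjective ((MonoidHom.ker_eq_bot_iff ψ).1 hker)).trans (MulEquiv.subgroupCongr hrange)⟩

end Enum

/-- A simple group with a 2-central involution with centraliser `Z₂ × A₅` is the group of the coset table. -/
theorem Emb.iso_tableGroup {G : Type*} [Group G] [Finite G] [IsSimpleGroup G] {ι : M →* G} (E : Emb ι) :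
    Nonempty (G ≃* tableGroup) := by
  obtain ⟨ι, a, E, ha, ha1, hI⟩ := E.exists_generators
  set gv := gens ι a with hgv
  let H : Subgroup G := Subgroup.closure (Set.range fun g : Fin 4 => gv g)
  have hmem : ∀ g : ℕ, g < 4 → gv g ∈ H := fun g hg => Subgroup.subset_closure ⟨⟨g, hg⟩, rfl⟩
  have hrange : ∀ m : M, ι m ∈ H := by
    intro m
    have hw : ∀ w : List ℕ, (∀ l ∈ w, l < 6) → ι (evalWord gM w) ∈ H := fun w hw => by
      rw [← eval_model (a := a) w hw]
      induction w with
      | nil => exact one_mem _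
      | cons l w ih =>
        rw [evalWord]
        refine mul_mem ?_ (ih fun k hk => hw k (List.mem_cons_of_mem _ hk))
        have hl := hw l List.mem_cons_self
        unfold letterVal
        split
        · exact hmem _ (by omega)
        · exact inv_mem (hmem _ (by omega))
    obtain ⟨i, hi⟩ := (Fintype.bijective_iff_injective_and_card (fun i : Fin 120 => el i)).2
      ⟨fun i j h => el_bij i j h, by rw [Fintype.card_fin, ← Nat.card_eq_fintype_card, card_M]⟩ |>.2 m
    rw [← hi]
    exact hw _ (el_words_lt i)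
  let ιH : M →* H := ι.codRestrict H hrange
  let gH : ℕ → H := fun g => if hg : g < 4 then ⟨gv g, hmem g hg⟩ else 1
  have hgH : ∀ g < 4, ((gH g : H) : G) = gv g := fun g hg => by simp [gH, hg]
  have hinj : Function.Injective ιH := fun x y h => E.inj (congrArg Subtype.val h)
  have hIH : Interp ιH gH (Data.baseRels ++ [Data.Case0.rel]) := by
    refine ⟨fun g hg => Subtype.ext ?_, fun w hw => Subtype.ext ?_⟩
    · rw [hgH g (by omega)]
      exact hI.gen g hg
    · refine (evalWord_map H.subtype gH gv fun l hl => hgH _ ?_).trans (hI.rel w hw)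
      exact (rels_lt w hw l hl)
  have hgenH : Subgroup.closure (Set.range fun g : Fin 4 => gH g) = ⊤ := by
    apply Subgroup.map_injective H.subtype_injective
    rw [MonoidHom.map_closure, ← Set.range_comp,
      show (H.subtype : H → G) ∘ (fun g : Fin 4 => gH g) = fun g : Fin 4 => gv g from
        funext fun g => hgH g g.2, ← MonoidHom.range_eq_map, Subgroup.range_subtype]
  have h7 : 7 ∣ Nat.card H := by
    have haH : a ∈ H := hmem 3 (by norm_num)
    haveI : Fact (Nat.Prime 7) := ⟨by norm_num⟩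
    have := orderOf_dvd_natCard (⟨a, haH⟩ : H)
    rwa [← Subgroup.orderOf_coe, orderOf_eq_prime ha ha1] at this
  have hH : H = ⊤ := Subgroup.eq_top_of_card_eq H (by rw [card_of_interp hinj h7 hIH hgenH, E.card_eq])
  exact iso_table E.inj (E.fusion.2) hI hH

end Cfsg.Agent.JankoOne
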