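import Cfsg.Agent.Lib.JankoOne.Exclude
import Cfsg.Agent.Lib.JankoOne.Main

/-!
An element of order 5 commuting with an element of order 3 and an involution inverting the latter, in a simple
group with a 2-central involution with centraliser `Z₂ × A₅`.
-/

set_option autoImplicit false
set_option linter.style.haveILetI false

namespace Cfsg.Agent.JankoOne

variable {G : Type*} [Group G] [Finite G] [IsSimpleGroup G] {ι : M →* G}

namespace Emb

variable (E : Emb ι)

include E

theorem card_eq : Nat.card G = 175560 := by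
  have ho : orderOf (ι tM) = 2 := orderOf_eq_prime (by rw [pow_two, ← map_mul, tM_sq.1, map_one])
    fun h => tM_sq.2.1 (E.inj (h.trans (map_one ι).symm))
  have hC : Subgroup.centralizer ({ι tM} : Set G) = ι.range := by
    ext g
    rw [Subgroup.mem_centralizer_singleton_iff, MonoidHom.mem_range]
    refine ⟨E.cent g, ?_⟩
    rintro ⟨m, rfl⟩
    rw [← map_mul, ← map_mul, tM_comm]
  refine (isJ1_of_centralizer (ι tM) ⟨ho, E.syl, ⟨tM, tM_sq.2.2, rfl⟩, ?_⟩
    ((MulEquiv.subgroupCongr hC).trans (MonoidHom.ofInjective E.inj).symm)).2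
  intro g hg
  obtain ⟨m, -, rfl⟩ : g ∈ P0.map ι := hg
  rw [← map_mul, ← map_mul, tM_comm]

theorem inverted_by {p : ℕ} {z a : G} (hzp : z ^ p = 1) (ha : a * a = 1) (hc : Commute z (a * z * a)) :
    (z * (a * z * a)⁻¹) ^ p = 1 ∧ a * (z * (a * z * a)⁻¹) * a = (z * (a * z * a)⁻¹)⁻¹ := by
  have hai : a⁻¹ = a := inv_eq_of_mul_eq_one_right ha
  constructor
  · rw [hc.inv_right.mul_pow, inv_pow, hzp, one_mul, show a * z * a = a * z * a⁻¹ by rw [hai], conj_pow, hzp,
      mul_one, mul_inv_cancel, inv_one]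
  · rw [mul_inv_rev (a * z) a, mul_inv_rev a z, mul_inv_rev, mul_inv_rev, mul_inv_rev, inv_inv, inv_inv, hai,
      show a * (z * (a * (z⁻¹ * a))) * a = a * z * a * z⁻¹ * (a * a) by group, ha, mul_one]

theorem card_oddPart_ne (hG : Nat.card G = 175560) {N : Subgroup G} (hN : OddPart ι yM N) :
    Nat.card N ≠ 5 := by
  intro h5
  haveI : Fact (Nat.Prime 5) := ⟨by norm_num⟩
  set Y := Subgroup.zpowers (ι yM) with hY
  have hy5 : (ι yM) ^ 5 = 1 := by rw [← map_pow, yM_facts.1, map_one]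
  have hyo : orderOf (ι yM) = 5 :=
    orderOf_eq_prime hy5 fun h => yM_facts.2.1 (E.inj (h.trans (map_one ι).symm))
  have hYc : Nat.card Y = 5 := by rw [Nat.card_zpowers, hyo]
  have hsyl : Nat.card Y = 5 ^ (Nat.card G).factorization 5 := by
    rw [hYc, hG]; decide +kernel
  let P : Sylow 5 G := Sylow.ofCard Y hsyl
  have hPY : (P : Subgroup G) = Y := rfl
  have hn := card_sylow_modEq_one 5 G
  rw [P.card_eq_index_normalizer] at hn
  change (Subgroup.normalizer (Y : Set G)).index ≡ 1 [MOD 5] at hn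
  set W := Subgroup.normalizer (Y : Set G) with hW
  have hker : Nat.card (Subgroup.normalizerMonoidHom Y).ker = 10 := by
    rw [Subgroup.normalizerMonoidHom_ker]
    rw [show Subgroup.centralizer (Y : Set G) = Subgroup.centralizer ({ι yM} : Set G) by
      rw [hY, Subgroup.zpowers_eq_closure, Subgroup.centralizer_closure]]
    rw [Nat.card_congr (Subgroup.subgroupOfEquivOfLe ?_).toEquiv, hN.card, h5]
    intro g hg
    have hg' := Subgroup.mem_centralizer_singleton_iff.1 hg
    refine Subgroup.mem_normalizer_iff.2 fun x => ?_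
    have hc : ∀ y ∈ Y, g * y = y * g := by
      rintro y ⟨k, rfl⟩
      exact ((show Commute g (ι yM) from hg').zpow_right k).eq
    constructor
    · intro hx
      rwa [hc x hx, mul_inv_cancel_right]
    · intro hx
      have h2 : g * x = x * g := by
        have := hc _ hx
        rw [inv_mul_cancel_right] at this
        have h3 : g * x * g⁻¹ = x := mul_left_cancel (by rw [this])
        calc g * x = g * x * g⁻¹ * g := by group
          _ = x * g := by rw [h3]
      rwa [h2, mul_inv_cancel_right] at hx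
  have hrange : Nat.card (Subgroup.normalizerMonoidHom Y).range ∣ 4 := by
    haveI : IsCyclic Y := isCyclic_of_prime_card hYc
    refine (Subgroup.card_subgroup_dvd_card _).trans (dvd_of_eq ?_)
    rw [IsCyclic.card_mulAut, hYc]
    decide +kernel
  have hv : ι vM * ι yM * (ι vM)⁻¹ = (ι yM)⁻¹ := by
    rw [← map_inv, ← map_inv, ← map_mul, ← map_mul, yM_facts.2.2.2.2.1]
  have hvN : ι vM ∈ W := by
    refine Subgroup.mem_normalizer_iff.2 fun x => ?_
    have hk : ∀ k : ℤ, ι vM * ι yM ^ k * (ι vM)⁻¹ = ι yM ^ (-k) := fun k => by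
      rw [← conj_zpow, hv, inv_zpow, zpow_neg]
    constructor
    · rintro ⟨k, rfl⟩
      exact ⟨-k, (hk k).symm⟩
    · rintro ⟨k, hk'⟩
      refine ⟨-k, ?_⟩
      have h1 : ι yM ^ k = ι vM * x * (ι vM)⁻¹ := hk'
      have h2 := hk (-k)
      rw [neg_neg, h1] at h2
      exact mul_left_cancel (mul_right_cancel h2)
  have hne : Nat.card (Subgroup.normalizerMonoidHom Y).range ≠ 1 := by
    intro h1
    have hmem : (⟨ι vM, hvN⟩ : W) ∈ (Subgroup.normalizerMonoidHom Y).ker := by
      have := Subgroup.eq_bot_of_card_eq _ h1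
      rw [MonoidHom.mem_ker, ← Subgroup.mem_bot, ← this]
      exact ⟨_, rfl⟩
    rw [Subgroup.normalizerMonoidHom_ker, Subgroup.mem_subgroupOf] at hmem
    have h2 : ι yM * ι vM = ι vM * ι yM :=
      Subgroup.mem_centralizer_iff.1 hmem (ι yM) (Subgroup.mem_zpowers _)
    rw [← h2, mul_inv_cancel_right] at hv
    have h3 : (ι yM) ^ 2 = 1 := by rw [pow_two]; exact mul_eq_one_iff_eq_inv.2 hv
    have := orderOf_dvd_of_pow_eq_one h3
    rw [hyo] at this
    norm_num at this
  have hcard : Nat.card W = Nat.card (Subgroup.normalizerMonoidHom Y).range * 10 := by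
    rw [← hker, ← Subgroup.index_ker, mul_comm, Subgroup.card_mul_index]
  have hidx := W.card_mul_index
  rw [hG, hcard] at hidx
  set d := Nat.card (Subgroup.normalizerMonoidHom Y).range
  have hd4 := Nat.le_of_dvd (by norm_num) hrange
  unfold Nat.ModEq at hn
  interval_cases d <;> omega

/-- An element of order 3 commuting with an element of order 5 and an involution inverting the former. -/
theorem exists_pair : ∃ (m : M) (w : G), m * m = 1 ∧ m * xM * m = xM⁻¹ ∧ w ^ 5 = 1 ∧ w ≠ 1 ∧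
    w * ι xM = ι xM * w ∧ w * ι m = ι m * w ∧ ι tM * w * ι tM = w⁻¹ := by
  obtain ⟨N, hN⟩ := E.exists_oddPart (p := 5) (Or.inr rfl) (tM_comm yM) yM_facts.1 yM_cent.1
    yM_cent.2.1 yM_cent.2.2
  have hG := E.card_eq
  obtain ⟨p, hp, hdvd, hp5⟩ : ∃ p : ℕ, p.Prime ∧ p ∣ Nat.card N ∧ p ≠ 5 := by
    by_contra hc
    push Not at hc
    have hdG : Nat.card N ∣ 175560 := hG ▸ Subgroup.card_subgroup_dvd_card N
    have hyN : ι yM ∈ N := hN.mem_of_odd _ rfl 5 (by decide) (by rw [← map_pow, yM_facts.1, map_one])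
    have h1 : 5 ∣ Nat.card N := by
      refine dvd_trans (dvd_of_eq ?_) (Subgroup.card_dvd_of_le (Subgroup.zpowers_le.2 hyN))
      rw [Nat.card_zpowers, orderOf_eq_prime (p := 5) (hp := ⟨by norm_num⟩)
        (by rw [← map_pow, yM_facts.1, map_one]) fun h => yM_facts.2.1 (E.inj (h.trans (map_one ι).symm))]
    obtain ⟨k, hk⟩ : ∃ k, Nat.card N = 5 ^ k := by
      refine ⟨(Nat.card N).primeFactorsList.length, Nat.eq_prime_pow_of_unique_prime_dvd Nat.card_pos.ne' ?_⟩
      intro q hq hqd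
      exact hc q hq hqd
    refine E.card_oddPart_ne hG hN ?_
    rw [hk] at h1 hdG ⊢
    have hk1 : k < 2 := by
      by_contra h
      have := (pow_dvd_pow 5 (by omega : 2 ≤ k)).trans hdG
      norm_num at this
    interval_cases k <;> simp_all
  haveI : Fact p.Prime := ⟨hp⟩
  obtain ⟨⟨z0, hz0⟩, hzo⟩ := exists_prime_orderOf_dvd_card' p hdvd
  have hzp : z0 ^ p = 1 := by
    have := pow_orderOf_eq_one (⟨z0, hz0⟩ : N)
    rw [hzo] at this
    exact congrArg Subtype.val this
  have hz1 : z0 ≠ 1 := fun h => by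
    rw [show (⟨z0, hz0⟩ : N) = 1 from Subtype.ext h, orderOf_one] at hzo
    exact hp.one_lt.ne hzo
  set t := ι tM with ht
  set v := ι vM with hv
  set y := ι yM with hy
  have ht2 : t * t = 1 := by rw [ht, ← map_mul, tM_sq.1, map_one]
  have hv2 : v * v = 1 := by rw [hv, ← map_mul, yM_facts.2.2.1, map_one]
  have hti := inv_eq_of_mul_eq_one_right ht2
  have hvi := inv_eq_of_mul_eq_one_right hv2
  have htv : t * v = v * t := by rw [ht, hv, ← map_mul, ← map_mul, tM_comm]
  have hty : t * y = y * t := by rw [ht, hy, ← map_mul, ← map_mul, tM_comm]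
  have hvy : v * y * v = y⁻¹ := by
    conv_lhs => arg 2; rw [← hvi]
    rw [hv, hy, ← map_inv, ← map_inv, ← map_mul, ← map_mul, yM_facts.2.2.2.2.1]
  have hy5 : y ^ 5 = 1 := by rw [hy, ← map_pow, yM_facts.1, map_one]
  -- elements of order `p` are central
  have hcen : ∀ g ∈ N, g ^ p = 1 → ∀ u ∈ N, u * g = g * u := by
    intro g hg hgp u hu
    obtain ⟨k, hk⟩ := hN.comm u hu g hg
    have hyg : Commute (y ^ k) g := Commute.pow_left ((hN.le g hg).symm) k
    have h2 : (y ^ k) ^ p = 1 := by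
      have h := congrArg (· ^ p) hk
      simp only [conj_pow, hgp, mul_one, mul_inv_cancel] at h
      rw [hyg.mul_pow, hgp, mul_one] at h
      exact h.symm
    have h3 : y ^ k = 1 := by
      refine orderOf_eq_one_iff.1 (Nat.eq_one_of_dvd_coprimes
        ((Nat.coprime_primes hp (by norm_num)).2 hp5) (orderOf_dvd_of_pow_eq_one h2)
        (orderOf_dvd_of_pow_eq_one ?_))
      rw [← pow_mul, mul_comm, pow_mul, hy5, one_pow]
    rw [show (ι yM) ^ k = y ^ k from rfl, h3, one_mul] at hk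
    exact mul_inv_eq_iff_eq_mul.1 hk
  have hconjT : ∀ g ∈ N, t * g * t ∈ N := fun g hg => by
    conv => arg 2; arg 2; rw [← hti]
    exact hN.norm t hty g hg
  have hconjV : ∀ g ∈ N, g ^ p = 1 → v * g * v ∈ N ∧ (v * g * v) ^ p = 1 := by
    intro g hg hgp
    have hodd : Odd p := hp.odd_of_ne_two fun h => by
      have := hN.odd; rw [h] at hdvd; rw [Nat.odd_iff] at this; omega
    have hvp : (v * g * v) ^ p = 1 := by
      rw [show v * g * v = v * g * v⁻¹ by rw [hvi], conj_pow, hgp, mul_one, mul_inv_cancel]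
    refine ⟨hN.mem_of_odd _ ?_ p hodd hvp, hvp⟩
    have h1 : g * y = y * g := hN.le g hg
    have h2 : v * g * v⁻¹ * ι yM = ι yM * (v * g * v⁻¹) :=
      E.normal_y (Or.inr (by rw [hvi]; exact hvy)) h1
    rwa [hvi] at h2
  -- an element inverted by `t`
  obtain ⟨z, hzN, hzp', hzne, hzt⟩ : ∃ z ∈ N, z ^ p = 1 ∧ z ≠ 1 ∧ t * z * t = z⁻¹ := by
    obtain ⟨h1, h2⟩ := E.inverted_by hzp ht2 ((hcen _ hz0 hzp _ (hconjT _ hz0)).symm)
    refine ⟨_, mul_mem hz0 (inv_mem (hconjT _ hz0)), h1, fun h => ?_, h2⟩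
    rw [mul_inv_eq_one] at h
    have hzt : z0 * t = t * z0 := by
      conv_lhs => rw [h, mul_assoc, ht2, mul_one]
    obtain ⟨k, hk⟩ := hN.fix z0 hz0 hzt
    refine hz1 (orderOf_eq_one_iff.1 (Nat.eq_one_of_dvd_coprimes
      ((Nat.coprime_primes hp (by norm_num)).2 hp5) (orderOf_dvd_of_pow_eq_one hzp)
      (orderOf_dvd_of_pow_eq_one ?_)))
    rw [hk, ← pow_mul, mul_comm, pow_mul, ← map_pow, yM_facts.1, map_one, one_pow]
  -- an element centralised by `v` or `t v`
  obtain ⟨z', a0, hz'p, hz'ne, hz'y, hz't, ha, ha1, hat, hay, haz⟩ : ∃ z' a0 : G, z' ^ p = 1 ∧ z' ≠ 1 ∧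
      z' * y = y * z' ∧ t * z' * t = z'⁻¹ ∧ a0 * a0 = 1 ∧ a0 ≠ 1 ∧ a0 * t = t * a0 ∧
        a0 * y * a0 = y⁻¹ ∧ a0 * z' = z' * a0 := by
    obtain ⟨hwN, hwp⟩ := hconjV z hzN hzp'
    have hcom : Commute z (v * z * v) := (hcen _ hzN hzp' _ hwN).symm
    by_cases hu : z * (v * z * v) = 1
    · refine ⟨z, t * v, hzp', hzne, hN.le z hzN, hzt, ?_, ?_, ?_, ?_, ?_⟩
      · rw [show t * v * (t * v) = t * (v * t) * v by group, ← htv,
          show t * (t * v) * v = t * t * (v * v) by group, ht2, hv2, one_mul]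
      · rw [ht, hv, ← map_mul]
        exact fun h => yM_facts.2.2.2.2.2.1 (E.inj (h.trans (map_one ι).symm))
      · rw [mul_assoc, ← htv]
      · rw [show t * v * y * (t * v) = t * (v * y * (t * v)) by group, htv,
          show v * y * (v * t) = v * y * v * t by group, hvy, ← mul_assoc]
        rw [show t * y⁻¹ = y⁻¹ * t from (show Commute t y from hty).inv_right.eq, mul_assoc, ht2, mul_one]
      · have h3 : v * z * v = z⁻¹ := eq_inv_of_mul_eq_one_right hu
        have h4 : v * z = z⁻¹ * v := by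
          rw [← h3, mul_assoc _ v v, hv2, mul_one]
        have h5 : t * z⁻¹ = z * t := by
          rw [← hzt, ← mul_assoc, ← mul_assoc, ht2, one_mul]
        rw [mul_assoc, h4, ← mul_assoc, h5, mul_assoc]
    · refine ⟨z * (v * z * v), v, ?_, hu, hN.le _ (mul_mem hzN hwN), ?_, hv2, ?_, htv.symm, hvy, ?_⟩
      · rw [hcom.mul_pow, hzp', hwp, mul_one]
      · have e1 : t * (v * z * v) * t = v * z⁻¹ * v := by
          calc t * (v * z * v) * t = (t * v) * z * (v * t) := by group
            _ = (v * t) * z * (t * v) := by rw [htv]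
            _ = v * (t * z * t) * v := by group
            _ = v * z⁻¹ * v := by rw [hzt]
        calc t * (z * (v * z * v)) * t = (t * z * t) * (t * (v * z * v) * t) := by
              rw [show t * z * t * (t * (v * z * v) * t) = t * z * (t * t) * (v * z * v) * t by group, ht2]
              group
          _ = z⁻¹ * (v * z⁻¹ * v) := by rw [hzt, e1]
          _ = z⁻¹ * (v * z * v)⁻¹ := by rw [mul_inv_rev, mul_inv_rev, hvi, mul_assoc v]
          _ = (z * (v * z * v))⁻¹ := by rw [← mul_inv_rev, hcom.eq]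
      · exact fun h => (show vM ≠ 1 from yM_facts.2.2.2.1) (E.inj (h.trans (map_one ι).symm))
      · calc v * (z * (v * z * v)) = v * z * v * z * v := by group
          _ = z * (v * z * v) * v := by rw [show v * z * v * z = z * (v * z * v) from hcom.eq.symm]
  -- move the involution to `t`
  obtain ⟨c, hc⟩ := isConj_iff.1 (E.conj_t ha ha1).symm
  have hcomm : ∀ k g h : G, g * h = h * g → k * g * k⁻¹ * (k * h * k⁻¹) = k * h * k⁻¹ * (k * g * k⁻¹) :=
    fun k g h e => by
      rw [show k * g * k⁻¹ * (k * h * k⁻¹) = k * (g * h) * k⁻¹ by group, e]; group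
  obtain ⟨mz, hmz⟩ := E.cent (c * z' * c⁻¹) (by
    have h := hcomm c _ _ haz.symm
    rwa [hc] at h)
  have hmzp : mz ^ p = 1 := E.inj (by rw [map_pow, hmz, conj_pow, hz'p, mul_one, mul_inv_cancel, map_one])
  have hmz1 : mz ≠ 1 := fun h => hz'ne (conj_eq_one_iff.1 (by rw [← hmz, h, map_one]))
  have hp3 : p = 3 := by
    have h120 : p ∣ 120 := by
      rw [← orderOf_eq_prime hmzp hmz1, ← card_M]
      exact orderOf_dvd_natCard _
    have hp2 : p ≠ 2 := fun h => by
      have := hN.odd; rw [h] at hdvd; rw [Nat.odd_iff] at this; omega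
    have := Nat.le_of_dvd (by norm_num) h120
    interval_cases p <;> first | omega | norm_num at hp | rfl
  subst hp3
  obtain ⟨g0, hg0⟩ := three_elt mz hmzp hmz1
  set d := ι ((1, g0) : M) * c with hd
  have hda : d * a0 * d⁻¹ = t := by
    rw [hd, show ι ((1, g0) : M) * c * a0 * (ι ((1, g0) : M) * c)⁻¹
      = ι ((1, g0) : M) * (c * a0 * c⁻¹) * (ι ((1, g0) : M))⁻¹ by group, hc, ← map_inv, ← map_mul,
      ← map_mul, tM_comm, mul_inv_cancel_right]
  have hdz : d * z' * d⁻¹ = ι xM := by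
    rw [hd, show ι ((1, g0) : M) * c * z' * (ι ((1, g0) : M) * c)⁻¹
      = ι ((1, g0) : M) * (c * z' * c⁻¹) * (ι ((1, g0) : M))⁻¹ by group, ← hmz, ← map_inv, ← map_mul,
      ← map_mul, hg0]
  obtain ⟨m, hm⟩ := E.cent (d * t * d⁻¹) (by
    have h := hcomm d _ _ hat.symm
    rwa [hda] at h)
  have hm2 : m * m = 1 := E.inj (by
    rw [map_mul, hm, map_one, show d * t * d⁻¹ * (d * t * d⁻¹) = d * (t * t) * d⁻¹ by group, ht2]; group)
  refine ⟨m, d * y * d⁻¹, hm2, E.inj ?_, ?_, ?_, ?_, ?_, ?_⟩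
  · rw [map_mul, map_mul, map_inv, hm, ← hdz,
      show d * t * d⁻¹ * (d * z' * d⁻¹) * (d * t * d⁻¹) = d * (t * z' * t) * d⁻¹ by group, hz't]
    group
  · rw [conj_pow, hy5, mul_one, mul_inv_cancel]
  · exact fun h => yM_facts.2.1 (E.inj ((conj_eq_one_iff.1 h).trans (map_one ι).symm))
  · rw [← hdz]; exact hcomm d _ _ hz'y.symm
  · rw [hm]; exact hcomm d _ _ hty.symm
  · rw [← hda, show d * a0 * d⁻¹ * (d * y * d⁻¹) * (d * a0 * d⁻¹) = d * (a0 * y * a0) * d⁻¹ by group,
      hay]
    group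

end Emb

end Cfsg.Agent.JankoOne
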