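import Cfsg.Agent.Lib.JankoOne.Unique.Frame
import Cfsg.Agent.Lib.JankoOne.Unique.Pair
import Cfsg.Agent.Lib.JankoOne.Cert.Case1
import Cfsg.Agent.Lib.JankoOne.Cert.Case2
import Cfsg.Agent.Lib.JankoOne.Cert.Case3
import Cfsg.Agent.Lib.JankoOne.Cert.Case0

/-!
Four generators of a simple group with centraliser `Z₂ × A₅` satisfy the relators of the first case.
-/

set_option autoImplicit false
set_option maxRecDepth 4000
set_option synthInstance.maxSize 4000
set_option synthInstance.maxHeartbeats 200000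

namespace Cfsg.Agent.JankoOne

open Cert

/-- The generator `q` of the model. -/
def qM : M := (1, q5)

/-- The values of the four generators. -/
def gens {G : Type*} [Group G] (ι : M →* G) (a : G) (g : ℕ) : G := if g < 3 then ι (gM g) else a

/-- The images of `tM` under the two kinds of conjugating elements. -/
def involA : M := qM⁻¹ * p8 6 * qM

/-- The second involution. -/
def involB : M := xM * qM * p8 3 * (xM * qM)⁻¹

/-- The conjugating word of the first two cases. -/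
def nA : List ℕ := [5, 7]

/-- The conjugating word of the last two cases. -/
def nB : List ℕ := [2, 4, 6]

/-- A case relator. -/
def caseRel (n : List ℕ) (k : ℕ) : List ℕ :=
  (n ++ Data.elWords.getD k [] ++ invWord n) ++ [2] ++ invWord (n ++ Data.elWords.getD k [] ++ invWord n) ++ [3]

theorem caseRel_eq : caseRel nA 46 = Data.Case0.rel ∧ caseRel nA 35 = Data.Case1.rel ∧
    caseRel nB 50 = Data.Case2.rel ∧ caseRel nB 25 = Data.Case3.rel := by decide +kernel

theorem invol_inv : ∀ m : M, m * m = 1 → m * xM * m = xM⁻¹ →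
    ∃ r : Fin 3, xM ^ r.1 * m * (xM ^ r.1)⁻¹ = involA ∨ xM ^ r.1 * m * (xM ^ r.1)⁻¹ = involB := by
  decide +kernel

theorem five_A : ∀ m : M, m * m * m * m * m = 1 → m ≠ 1 → p8 3 * m * p8 3 = m⁻¹ →
    ∃ k : Fin 5, m ^ k.1 = el 46 ∨ m ^ k.1 = el 35 := by decide +kernel

theorem five_B : ∀ m : M, m * m * m * m * m = 1 → m ≠ 1 → p8 6 * m * p8 6 = m⁻¹ →
    ∃ k : Fin 5, m ^ k.1 = el 50 ∨ m ^ k.1 = el 25 := by decide +kernel

theorem model_rels : ∀ w ∈ Data.baseRels.take 11, (∀ l ∈ w, l < 6) → evalWord gM w = 1 := by decide +kernel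

theorem sig_words : sig 1 = 3 ∧ sig 6 = 1 ∧ p8 1 = tM ∧
    (evalWord gM [0] = p8 1 ∧ evalWord gM [3, 4, 4, 3, 4, 3, 1] = (p8 3)⁻¹) ∧
    (evalWord gM [2, 5, 2, 5, 5, 2] = p8 2 ∧ evalWord gM [5, 2, 5, 5, 3] = (p8 6)⁻¹) ∧
    (evalWord gM [4, 3, 5, 5] = p8 4 ∧ evalWord gM [5, 2, 5, 5, 3, 1] = (p8 7)⁻¹) := by decide +kernel

variable {G : Type*} [Group G] {ι : M →* G} {a : G}

theorem gens_lt {g : ℕ} (hg : g < 3) : gens ι a g = ι (gM g) := if_pos hg

theorem eval_model (w : List ℕ) (hw : ∀ l ∈ w, l < 6) : evalWord (gens ι a) w = ι (evalWord gM w) :=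
  (evalWord_map ι gM (gens ι a) fun l hl => (gens_lt (by have := hw l hl; omega)).symm).symm

theorem eval_conj (w w' : List ℕ) (hw : ∀ l ∈ w, l < 6) (hw' : ∀ l ∈ w', l < 6) :
    evalWord (gens ι a) (6 :: (w ++ 7 :: w')) = a * ι (evalWord gM w) * a⁻¹ * ι (evalWord gM w') := by
  rw [evalWord, evalWord_append, evalWord, eval_model w hw, eval_model w' hw']
  simp [letterVal, gens, mul_assoc]

theorem interp_base (ha : a ^ 7 = 1) (hact : Acts ι a sig) (hx : ι xM * a * (ι xM)⁻¹ = a ^ 2) :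
    Interp ι (gens ι a) Data.baseRels where
  gen g hg := by rw [gens_lt hg, ← el_gen ⟨g, hg⟩]
  rel w hw := by
    have hlow : ∀ w ∈ Data.baseRels.take 11, (∀ l ∈ w, l < 6) → evalWord (gens ι a) w = 1 :=
      fun w hw h => by rw [eval_model w h, model_rels w hw h, map_one]
    obtain ⟨hs1, -, -, ⟨h1, h1'⟩, ⟨h2, h2'⟩, ⟨h4, h4'⟩⟩ := sig_words
    simp only [Data.baseRels, List.mem_cons, List.not_mem_nil, or_false] at hw
    rcases hw with rfl | rfl | rfl | rfl | rfl | rfl | rfl | rfl | rfl | rfl | rfl | rfl | rfl | rfl | rfl | rfl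
    · rfl
    · simp [evalWord, letterVal]
    · simp [evalWord, letterVal]
    · simp [evalWord, letterVal]
    · simp [evalWord, letterVal]
    · exact hlow _ (by decide) (by decide)
    · exact hlow _ (by decide) (by decide)
    · exact hlow _ (by decide) (by decide)
    · exact hlow _ (by decide) (by decide)
    · exact hlow _ (by decide) (by decide)
    · exact hlow _ (by decide) (by decide)
    · show a * (a * (a * (a * (a * (a * (a * 1)))))) = 1
      rw [mul_one, ← ha]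
      simp [pow_succ, mul_assoc]
    · show ι xM * (a * ((ι xM)⁻¹ * (a⁻¹ * (a⁻¹ * 1)))) = 1
      rw [← mul_assoc, ← mul_assoc, hx]
      group
    · rw [show ([6, 0, 7, 3, 4, 4, 3, 4, 3, 1] : List ℕ) = 6 :: ([0] ++ 7 :: [3, 4, 4, 3, 4, 3, 1]) from rfl,
        eval_conj _ _ (by decide) (by decide), h1, h1', hact, map_inv]
      exact mul_inv_cancel _
    · rw [show ([6, 2, 5, 2, 5, 5, 2, 7, 5, 2, 5, 5, 3] : List ℕ) = 6 :: ([2, 5, 2, 5, 5, 2] ++ 7 :: [5, 2, 5, 5, 3]) from rfl,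
        eval_conj _ _ (by decide) (by decide), h2, h2', hact, map_inv]
      exact mul_inv_cancel _
    · rw [show ([6, 4, 3, 5, 5, 7, 5, 2, 5, 5, 3, 1] : List ℕ) = 6 :: ([4, 3, 5, 5] ++ 7 :: [5, 2, 5, 5, 3, 1]) from rfl,
        eval_conj _ _ (by decide) (by decide), h4, h4', hact, map_inv]
      exact mul_inv_cancel _

/-- A fact putting `a` in the centraliser is absurd. -/
theorem no_collapse (ha : a ^ 7 = 1) (ha1 : a ≠ 1) (hinj : Function.Injective ι)
    {R : ℕ → G} {f : Fact} (h0 : R 0 = 1) (hf : Holds ι (gens ι a) R f) (hs : f.src = 0) (ht : f.tgt = 0)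
    (hg : f.gen = 3) : False := by
  obtain ⟨e, -⟩ := hf
  rw [hs, ht, h0, one_mul, mul_one, hg] at e
  have ea : a = ι (el f.lab) := by simpa [genVal, gens] using e
  have h7 : el f.lab ^ 7 = 1 := hinj (by rw [map_pow, ← ea, ha, map_one])
  have h120 : el f.lab ^ 120 = 1 := by rw [← card_M]; exact pow_card_eq_one'
  refine ha1 ?_
  rw [ea, orderOf_eq_one_iff.1 (Nat.eq_one_of_dvd_coprimes (by norm_num : Nat.Coprime 7 120)
    (orderOf_dvd_of_pow_eq_one h7) (orderOf_dvd_of_pow_eq_one h120)), map_one]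

theorem collapse_facts :
    ((cert1.fact Data.Case1.collapse).src = 0 ∧ (cert1.fact Data.Case1.collapse).tgt = 0 ∧
      (cert1.fact Data.Case1.collapse).gen = 3 ∧ Data.Case1.collapse < Data.Case1.size) ∧
    ((cert2.fact Data.Case2.collapse).src = 0 ∧ (cert2.fact Data.Case2.collapse).tgt = 0 ∧
      (cert2.fact Data.Case2.collapse).gen = 3 ∧ Data.Case2.collapse < Data.Case2.size) ∧
    ((cert3.fact Data.Case3.collapse).src = 0 ∧ (cert3.fact Data.Case3.collapse).tgt = 0 ∧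
      (cert3.fact Data.Case3.collapse).gen = 3 ∧ Data.Case3.collapse < Data.Case3.size) := by decide +kernel

theorem nA_val : evalWord (gens ι a) nA = (ι qM)⁻¹ * a⁻¹ := by
  show (ι qM)⁻¹ * (a⁻¹ * 1) = _
  rw [mul_one]

theorem nB_val : evalWord (gens ι a) nB = ι xM * ι qM * a := by
  show ι xM * (ι qM * (a * 1)) = _
  rw [mul_one, mul_assoc]

/-- An element of order 5 commuting with `x` and the image of `t` under `n` gives a case relator. -/
theorem case_rel {n : List ℕ} {u v : M} {k₁ k₂ : ℕ} {w : G} (hinj : Function.Injective ι)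
    (hcent : ∀ g : G, g * ι tM = ι tM * g → ∃ m, ι m = g)
    (hn : evalWord (gens ι a) n * ι tM * (evalWord (gens ι a) n)⁻¹ = ι v)
    (hu : (evalWord (gens ι a) n)⁻¹ * ι tM * evalWord (gens ι a) n = ι u)
    (hfive : ∀ m : M, m * m * m * m * m = 1 → m ≠ 1 → u * m * u = m⁻¹ →
      ∃ k : Fin 5, m ^ k.1 = el k₁ ∨ m ^ k.1 = el k₂)
    (hk₁ : ∀ l ∈ Data.elWords.getD k₁ [], l < 6) (hk₂ : ∀ l ∈ Data.elWords.getD k₂ [], l < 6)
    (hw5 : w ^ 5 = 1) (hw1 : w ≠ 1) (hwx : w * ι xM = ι xM * w) (hwv : w * ι v = ι v * w)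
    (hwt : ι tM * w * ι tM = w⁻¹) :
    evalWord (gens ι a) (caseRel n k₁) = 1 ∨ evalWord (gens ι a) (caseRel n k₂) = 1 := by
  set N := evalWord (gens ι a) n with hN
  obtain ⟨m, hm⟩ := hcent (N⁻¹ * w * N) (by
    have h1 : w * (N * ι tM * N⁻¹) = N * ι tM * N⁻¹ * w := by rw [hn]; exact hwv
    calc N⁻¹ * w * N * ι tM = N⁻¹ * (w * (N * ι tM * N⁻¹)) * N := by group
      _ = ι tM * (N⁻¹ * w * N) := by rw [h1]; group)
  have hm5 : m * m * m * m * m = 1 := hinj (by
    rw [show m * m * m * m * m = m ^ 5 by simp [pow_succ], map_pow, hm, map_one,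
      show N⁻¹ * w * N = N⁻¹ * w * N⁻¹⁻¹ by rw [inv_inv], conj_pow, hw5, mul_one, mul_inv_cancel])
  have hm1 : m ≠ 1 := fun h => hw1 (by
    rw [h, map_one] at hm
    calc w = N * (N⁻¹ * w * N) * N⁻¹ := by group
      _ = 1 := by rw [← hm]; group)
  have hmu : u * m * u = m⁻¹ := hinj (by
    rw [map_mul, map_mul, map_inv, hm, ← hu,
      show N⁻¹ * ι tM * N * (N⁻¹ * w * N) * (N⁻¹ * ι tM * N) = N⁻¹ * (ι tM * w * ι tM) * N by group, hwt]
    group)
  have main : ∀ (k : ℕ) (j : Fin 5), (∀ l ∈ Data.elWords.getD k [], l < 6) → m ^ j.1 = el k →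
      evalWord (gens ι a) (caseRel n k) = 1 := by
    intro k j hk hj
    set W := n ++ Data.elWords.getD k [] ++ invWord n with hW
    have hWv : evalWord (gens ι a) W = w ^ j.1 := by
      rw [hW, evalWord_append, evalWord_append, evalWord_invWord, ← hN, eval_model _ hk,
        show evalWord gM (Data.elWords.getD k []) = el k from rfl, ← hj, map_pow, hm,
        show N⁻¹ * w * N = N⁻¹ * w * N⁻¹⁻¹ by rw [inv_inv], conj_pow]
      group
    show evalWord (gens ι a) (W ++ [2] ++ invWord W ++ [3]) = 1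
    rw [evalWord_append, evalWord_append, evalWord_append, evalWord_invWord, hWv]
    show w ^ j.1 * (ι xM * 1) * (w ^ j.1)⁻¹ * ((ι xM)⁻¹ * 1) = 1
    rw [mul_one, mul_one, (Commute.pow_left (show Commute w (ι xM) from hwx) j.1).eq, mul_inv_cancel_right,
      mul_inv_cancel]
  obtain ⟨j, hj | hj⟩ := hfive m hm5 hm1 hmu
  · exact Or.inl (main _ j hk₁ hj)
  · exact Or.inr (main _ j hk₂ hj)

namespace Emb

variable [Finite G] [IsSimpleGroup G]

/-- Generators satisfying the relators of the first case. -/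
theorem exists_generators (E : Emb ι) : ∃ (ι' : M →* G) (a : G), Emb ι' ∧ a ^ 7 = 1 ∧ a ≠ 1 ∧
    Interp ι' (gens ι' a) (Data.baseRels ++ [Data.Case0.rel]) := by
  obtain ⟨ι, a, E, ha, ha1, hact, hx⟩ := E.exists_frame
  refine ⟨ι, a, E, ha, ha1, ?_⟩
  have hB := interp_base ha hact hx
  have hext : ∀ r, evalWord (gens ι a) r = 1 → Interp ι (gens ι a) (Data.baseRels ++ [r]) := fun r hr =>
    ⟨hB.gen, fun w hw => by
      rcases List.mem_append.1 hw with h | h
      · exact hB.rel w h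
      · rw [List.mem_singleton.1 h]; exact hr⟩
  obtain ⟨c1, c2, c3⟩ := collapse_facts
  have hno1 : evalWord (gens ι a) Data.Case1.rel ≠ 1 := fun h => by
    obtain ⟨R, h0, hR⟩ := sound (hext _ h) cert1 rfl cert1_ok
    exact no_collapse ha ha1 E.inj h0 (hR _ c1.2.2.2) c1.1 c1.2.1 c1.2.2.1
  have hno2 : evalWord (gens ι a) Data.Case2.rel ≠ 1 := fun h => by
    obtain ⟨R, h0, hR⟩ := sound (hext _ h) cert2 rfl cert2_ok
    exact no_collapse ha ha1 E.inj h0 (hR _ c2.2.2.2) c2.1 c2.2.1 c2.2.2.1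
  have hno3 : evalWord (gens ι a) Data.Case3.rel ≠ 1 := fun h => by
    obtain ⟨R, h0, hR⟩ := sound (hext _ h) cert3 rfl cert3_ok
    exact no_collapse ha ha1 E.inj h0 (hR _ c3.2.2.2) c3.1 c3.2.1 c3.2.2.1
  refine hext _ ?_
  obtain ⟨m, w, hm2, hmx, hw5, hw1, hwx, hwm, hwt⟩ := E.exists_pair
  obtain ⟨r, hr⟩ := invol_inv m hm2 hmx
  have hwm' : w * ι (xM ^ r.1 * m * (xM ^ r.1)⁻¹) = ι (xM ^ r.1 * m * (xM ^ r.1)⁻¹) * w := by
    have h1 : Commute w (ι xM ^ r.1) := Commute.pow_right hwx _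
    rw [map_mul, map_mul, map_inv, map_pow]
    exact ((h1.mul_right hwm).mul_right h1.inv_right).eq
  obtain ⟨hs1, hs6, hp1, -⟩ := sig_words
  have h3 : a * ι tM * a⁻¹ = ι (p8 3) := by
    have := hact 1
    rwa [hs1, hp1] at this
  have h6 : a⁻¹ * ι tM * a = ι (p8 6) := by
    have h := hact 6
    rw [hs6, hp1] at h
    rw [← h]
    group
  obtain ⟨e0, e1, e2, e3⟩ := caseRel_eq
  rcases hr with h | h
  · rw [h] at hwm'
    refine (case_rel (n := nA) (u := p8 3) (v := involA) (k₁ := 46) (k₂ := 35) E.inj E.cent ?_ ?_ five_A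
      (by decide) (by decide) hw5 hw1 hwx hwm' hwt).elim (fun h => e0 ▸ h) fun h => absurd (e1 ▸ h) hno1
    · rw [nA_val, involA, map_mul, map_mul, map_inv, ← h6]
      group
    · rw [nA_val, ← h3]
      have hq : ι qM * ι tM * (ι qM)⁻¹ = ι tM := by
        rw [← map_inv, ← map_mul, ← map_mul, tM_comm, mul_inv_cancel_right]
      calc ((ι qM)⁻¹ * a⁻¹)⁻¹ * ι tM * ((ι qM)⁻¹ * a⁻¹) = a * (ι qM * ι tM * (ι qM)⁻¹) * a⁻¹ := by group
        _ = a * ι tM * a⁻¹ := by rw [hq]
  · rw [h] at hwm'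
    refine (case_rel (n := nB) (u := p8 6) (v := involB) (k₁ := 50) (k₂ := 25) E.inj E.cent ?_ ?_ five_B
      (by decide) (by decide) hw5 hw1 hwx hwm' hwt).elim (fun h => absurd (e2 ▸ h) hno2)
      fun h => absurd (e3 ▸ h) hno3
    · rw [nB_val, involB, map_mul, map_mul, map_inv, map_mul, ← h3]
      group
    · rw [nB_val, ← h6]
      have hq : (ι qM)⁻¹ * ((ι xM)⁻¹ * ι tM * ι xM) * ι qM = ι tM := by
        rw [← map_inv, ← map_inv, ← map_mul, ← map_mul, ← map_mul, ← map_mul]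
        exact congrArg ι (by decide +kernel)
      calc (ι xM * ι qM * a)⁻¹ * ι tM * (ι xM * ι qM * a)
          = a⁻¹ * ((ι qM)⁻¹ * ((ι xM)⁻¹ * ι tM * ι xM) * ι qM) * a := by group
        _ = a⁻¹ * ι tM * a := by rw [hq]

end Emb

end Cfsg.Agent.JankoOne
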